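import Groth.Agent.ZariskiGL.Core
import Groth.Agent.H23.DblAlg
import Groth.Agent.Lib.CurveDeg

/-!
Zariski pairs: vector bundles on the punctured spectrum with isomorphic base changes are isomorphic.
-/

universe u

open CategoryTheory CategoryTheory.Limits AlgebraicGeometry TopologicalSpace Opposite

set_option backward.isDefEq.respectTransparency false
set_option backward.isDefEq.respectTransparency.types false
set_option linter.style.haveILetI false
set_option maxHeartbeats 1000000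

noncomputable section

namespace Groth.Agent.ZariskiGL

theorem jacobson_map {R R' : Type u} [CommRing R] [CommRing R'] (e : R ≃+* R') (I : Ideal R)
    (h : I ≤ (⊥ : Ideal R).jacobson) : I.map e.toRingHom ≤ (⊥ : Ideal R').jacobson := by
  rw [Ideal.map_le_iff_le_comap]
  intro x hx
  rw [Ideal.mem_comap, Ideal.mem_jacobson_bot]
  intro y
  obtain ⟨z, rfl⟩ := e.surjective y
  simpa using ((Ideal.mem_jacobson_bot.1 (h hx)) z).map e.toRingHom

/-- The global functions on a spectrum. -/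
abbrev γ (R : Type u) [CommRing R] : R ≃+* Γ(Spec (CommRingCat.of R), ⊤) :=
  (Scheme.ΓSpecIso (CommRingCat.of R)).commRingCatIsoToRingEquiv.symm

theorem main (A A' : Type u) [CommRing A] [CommRing A']
    [IsNoetherianRing A] [IsNoetherianRing A'] (φ : A →+* A') (J : Ideal A)
    (hJ : J ≤ (⊥ : Ideal A).jacobson) (hJ' : J.map φ ≤ (⊥ : Ideal A').jacobson)
    (hq : ∀ n : ℕ, Function.Bijective (Ideal.quotientMap (Ideal.map φ (J ^ n)) φ Ideal.le_comap_map))
    (U : (Spec (CommRingCat.of A)).Opens)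
    (hU : ∀ p : PrimeSpectrum A, ¬ J ≤ p.asIdeal → p ∈ U)
    (n : ℕ) (E₁ E₂ : (U : Scheme.{u}).Modules)
    (h₁ : FlatMod.IsFinLocFreeOfRank n E₁) (h₂ : FlatMod.IsFinLocFreeOfRank n E₂)
    (e : (Scheme.Modules.pullback ((Spec.map (CommRingCat.ofHom φ)) ∣_ U)).obj E₁ ≅
      (Scheme.Modules.pullback ((Spec.map (CommRingCat.ofHom φ)) ∣_ U)).obj E₂) :
    Nonempty (E₁ ≅ E₂) := by
  let g : Spec (CommRingCat.of A') ⟶ Spec (CommRingCat.of A) := Spec.map (CommRingCat.ofHom φ)
  let gT := (g.appLE ⊤ ⊤ le_top).hom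
  have hnat : ∀ a, gT (γ A a) = γ A' (φ a) := fun a => by
    have e2 : g.appLE ⊤ ⊤ le_top = g.appTop := by rw [Scheme.Hom.appTop, Scheme.Hom.app_eq_appLE]; rfl
    show (g.appLE ⊤ ⊤ le_top).hom _ = _
    rw [e2]
    exact (congr($(Scheme.ΓSpecIso_inv_naturality (CommRingCat.ofHom φ)).hom a)).symm
  have hcomp : gT.comp (γ A).toRingHom = (γ A').toRingHom.comp φ := RingHom.ext hnat
  let J₂ : Ideal Γ(Spec (CommRingCat.of A), ⊤) := J.map (γ A).toRingHom
  have hpow : ∀ M, (J₂ ^ M).map gT = ((J ^ M).map φ).map (γ A').toRingHom := fun M => by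
    rw [Ideal.map_map, ← Ideal.map_pow, Ideal.map_map, hcomp]
  have hflat : φ.Flat := by
    letI := φ.toAlgebra
    have h0 : SameQuot (A' := A') J := ⟨fun m b => by
      obtain ⟨c, hc⟩ := (hq m).2 (Ideal.Quotient.mk _ b)
      obtain ⟨a, rfl⟩ := Ideal.Quotient.mk_surjective c
      exact ⟨a, Ideal.Quotient.eq.1 hc⟩, fun m a ha => Ideal.Quotient.eq_zero_iff_mem.1
        ((hq m).1 ((Ideal.Quotient.eq_zero_iff_mem.2 ha).trans (map_zero _).symm))⟩
    haveI := h0.faithfullyFlat hJ hJ'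
    exact RingHom.flat_algebraMap_iff.2 inferInstance
  haveI : Flat g := (HasRingHomProperty.Spec_iff (P := @Flat)).2 hflat
  haveI : IsNoetherianRing Γ(Spec (CommRingCat.of A), ⊤) := isNoetherianRing_of_ringEquiv A (γ A)
  haveI : IsNoetherianRing Γ(Spec (CommRingCat.of A'), ⊤) := isNoetherianRing_of_ringEquiv A' (γ A')
  haveI : NoetherianSpace (Spec (CommRingCat.of A)) := inferInstanceAs (NoetherianSpace (PrimeSpectrum A))
  haveI : CompactSpace (U : Scheme.{u}) := isCompact_iff_compactSpace.1 (NoetherianSpace.isCompact (U : Set (Spec (CommRingCat.of A))))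
  haveI : (U : Scheme.{u}).IsQuasiAffine := Scheme.IsQuasiAffine.of_isImmersion U.ι
  haveI : IsLocallyNoetherian (U : Scheme.{u}) := inferInstance
  haveI : QuasiCompact U.ι := QuasiCompact.of_comp U.ι (terminal.from _)
  haveI : QuasiSeparatedSpace (U : Scheme.{u}) := inferInstance
  have hD : ∀ r ∈ J₂, (Spec (CommRingCat.of A)).basicOpen r ≤ U.ι.opensRange := by
    intro r hr p hp
    rw [Scheme.Opens.opensRange_ι]
    refine hU p fun hle => ?_
    obtain ⟨a, ha, rfl⟩ := (Ideal.mem_map_iff_of_surjective _ (γ A).surjective).1 hr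
    have hp' : p ∈ PrimeSpectrum.basicOpen a := by
      rw [← basicOpen_eq_of_affine (R := CommRingCat.of A)]
      exact hp
    exact hp' (hle ha)
  have hbo : ∀ r, (U : Scheme.{u}).basicOpen (fn U.ι r) = U.ι ⁻¹ᵁ (Spec (CommRingCat.of A)).basicOpen r :=
    fun r => (Scheme.preimage_basicOpen_top U.ι r).symm
  refine nonempty_iso (S := Spec (CommRingCat.of A)) (S' := Spec (CommRingCat.of A')) (f := U.ι) (g := g)
    (isPullback_morphismRestrict g U)
    (Groth.Agent.CurveDeg.isCoh_of_isFinLocFree (Groth.Agent.H23.DblAlg.isFinLocFree_of_rank h₁))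
    (Groth.Agent.CurveDeg.isCoh_of_isFinLocFree (Groth.Agent.H23.DblAlg.isFinLocFree_of_rank h₂))
    J₂ (jacobson_map (γ A) J hJ) ?_ ?_ (fun r hr => ?_) (fun r hr z => ?_) e
  · have := hpow 1
    rw [pow_one, pow_one] at this
    exact this.trans_le (jacobson_map (γ A') _ hJ')
  · letI : Algebra Γ(Spec (CommRingCat.of A), ⊤) Γ(Spec (CommRingCat.of A'), ⊤) := gT.toAlgebra
    refine ⟨fun M b => ?_, fun M a ha => ?_⟩
    · obtain ⟨b, rfl⟩ := (γ A').surjective b
      obtain ⟨c, hc⟩ := (hq M).2 (Ideal.Quotient.mk _ b)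
      obtain ⟨a, rfl⟩ := Ideal.Quotient.mk_surjective c
      refine ⟨γ A a, ?_⟩
      show gT (γ A a) - γ A' b ∈ (J₂ ^ M).map gT
      rw [hnat, ← map_sub, hpow]
      exact Ideal.mem_map_of_mem (γ A').toRingHom (Ideal.Quotient.eq.1 hc)
    · obtain ⟨a, rfl⟩ := (γ A).surjective a
      change gT (γ A a) ∈ (J₂ ^ M).map gT at ha
      rw [hnat, hpow] at ha
      have h1 : φ a ∈ (J ^ M).map φ := by
        obtain ⟨b, hb, hb'⟩ := (Ideal.mem_map_iff_of_surjective _ (γ A').surjective).1 ha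
        rwa [← (γ A').injective hb']
      have h2 : a ∈ J ^ M := Ideal.Quotient.eq_zero_iff_mem.1
        ((hq M).1 ((Ideal.Quotient.eq_zero_iff_mem.2 h1).trans (map_zero _).symm))
      rw [← Ideal.map_pow]
      exact Ideal.mem_map_of_mem _ h2
  · rw [hbo]
    exact (IsAffineOpen.basicOpen (isAffineOpen_top _) r).preimage_of_isOpenImmersion U.ι (hD r hr)
  · let S := Spec (CommRingCat.of A)
    let D := S.basicOpen r
    haveI := U.ι.isIso_app D (hD r hr)
    haveI := (isAffineOpen_top S).isLocalization_basicOpen r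
    let zW : Γ((U : Scheme.{u}), U.ι ⁻¹ᵁ D) := (U : Scheme.{u}).presheaf.map (homOfLE le_top).op z
    obtain ⟨w, hw⟩ := (ConcreteCategory.bijective_of_isIso (U.ι.app D)).2 zW
    obtain ⟨⟨a, ⟨_, m, rfl⟩⟩, ha⟩ := IsLocalization.surj (Submonoid.powers r) w
    have hres : ∀ x : Γ(S, ⊤), U.ι.app D (S.presheaf.map (homOfLE (le_top : D ≤ ⊤)).op x) =
        (U : Scheme.{u}).presheaf.map (homOfLE (le_top : U.ι ⁻¹ᵁ D ≤ ⊤)).op (fn U.ι x) := fun x =>
      congr($(U.ι.naturality (homOfLE (le_top : D ≤ ⊤)).op).hom x)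
    have h1 : (U : Scheme.{u}).presheaf.map (homOfLE ((U : Scheme.{u}).basicOpen_le (fn U.ι r))).op
        (fn U.ι r ^ m * z - fn U.ι a) = 0 := by
      have key : (U : Scheme.{u}).presheaf.map (homOfLE (le_top : U.ι ⁻¹ᵁ D ≤ ⊤)).op (fn U.ι r ^ m * z - fn U.ι a) = 0 := by
        rw [map_sub, map_mul, ← hres a, ← map_pow, ← hres (r ^ m)]
        show U.ι.app D _ * zW - _ = 0
        rw [← hw, ← map_mul, sub_eq_zero, mul_comm]
        exact congrArg _ ha
      have hle : (U : Scheme.{u}).basicOpen (fn U.ι r) ≤ U.ι ⁻¹ᵁ D := (hbo r).le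
      have := congrArg ((U : Scheme.{u}).presheaf.map (homOfLE hle).op) key
      rw [map_zero] at this
      refine Eq.trans ?_ this
      rw [← CommRingCat.comp_apply, ← Functor.map_comp]
      rfl
    obtain ⟨k, hk⟩ := exists_pow_mul_eq_zero_of_res_basicOpen_eq_zero_of_isCompact (U : Scheme.{u}) (U := ⊤)
      isCompact_univ _ (fn U.ι r) h1
    refine ⟨k + m, r ^ k * a, ?_⟩
    rw [map_mul, map_pow, pow_add]
    linear_combination hk

end Groth.Agent.ZariskiGL
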