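import Groth.Agent.LocalCrit.Flatness
import Mathlib.RingTheory.Flat.FaithfullyFlat.Algebra
import Mathlib.RingTheory.TensorProduct.Quotient
import Mathlib.RingTheory.Nakayama
import Mathlib.RingTheory.Finiteness.Ideal

/-!
Algebra of Zariski pairs with the same quotients by powers of the ideal.
-/

universe u

open TensorProduct

namespace Groth.Agent.ZariskiGL

variable {A : Type u} [CommRing A] {A' : Type u} [CommRing A'] [Algebra A A'] (J : Ideal A)

/-- The two pairs have the same quotients by all powers of the ideal. -/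
structure SameQuot : Prop where
  lift : ∀ (n : ℕ) (b : A'), ∃ a, algebraMap A A' a - b ∈ (J ^ n).map (algebraMap A A')
  reflect : ∀ (n : ℕ) (a : A), algebraMap A A' a ∈ (J ^ n).map (algebraMap A A') → a ∈ J ^ n

variable {J}

theorem SameQuot.bijective_one (h : SameQuot (A' := A') J) (n : ℕ) :
    Function.Bijective fun c : A ⧸ J ^ n => c ⊗ₜ[A] (1 : A') := by
  let e : (A' ⧸ (J ^ n).map (algebraMap A A')) ≃ₐ[A'] A' ⊗[A] (A ⧸ J ^ n) :=
    Algebra.TensorProduct.quotIdealMapEquivTensorQuot A' (J ^ n)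
  let q : A ⧸ J ^ n → A' ⧸ (J ^ n).map (algebraMap A A') :=
    Ideal.quotientMap _ (algebraMap A A') Ideal.le_comap_map
  have hq : Function.Bijective q := by
    refine ⟨Ideal.quotientMap_injective' (fun a ha => h.reflect n a ha), fun y => ?_⟩
    obtain ⟨b, rfl⟩ := Ideal.Quotient.mk_surjective y
    obtain ⟨a, ha⟩ := h.lift n b
    exact ⟨Ideal.Quotient.mk _ a, Ideal.Quotient.eq.2 ha⟩
  have : (fun c : A ⧸ J ^ n => c ⊗ₜ[A] (1 : A')) = TensorProduct.comm A A' (A ⧸ J ^ n) ∘ e ∘ q := by
    funext c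
    obtain ⟨a, rfl⟩ := Ideal.Quotient.mk_surjective c
    show _ = TensorProduct.comm A A' (A ⧸ J ^ n) (e (Ideal.Quotient.mk _ (algebraMap A A' a)))
    refine Eq.trans ?_ (congrArg _ (e.commutes _).symm)
    rw [Algebra.TensorProduct.algebraMap_apply, Algebra.algebraMap_self_apply, TensorProduct.comm_tmul,
      Algebra.algebraMap_eq_smul_one, TensorProduct.tmul_smul, TensorProduct.smul_tmul']
    congr 1
    exact Algebra.algebraMap_eq_smul_one a
  rw [this]
  exact (TensorProduct.comm A A' (A ⧸ J ^ n)).bijective.comp (e.bijective.comp hq)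

theorem SameQuot.faithfullyFlat [IsNoetherianRing A] [IsNoetherianRing A'] (h : SameQuot (A' := A') J)
    (hJ : J ≤ Ideal.jacobson ⊥) (hJ' : J.map (algebraMap A A') ≤ Ideal.jacobson ⊥) :
    Module.FaithfullyFlat A A' := by
  haveI : Module.Flat A A' := Groth.Agent.LocalCrit.flat_of_forall_quotient_pow (B := A') J hJ' fun n => by
    haveI : Module.Flat (A ⧸ J ^ n) ((A ⧸ J ^ n) ⊗[A] A') :=
      Module.Flat.of_linearEquiv (LinearEquiv.ofBijective
        (LinearMap.toSpanSingleton (A ⧸ J ^ n) ((A ⧸ J ^ n) ⊗[A] A') 1) (by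
          have := h.bijective_one n
          convert this using 1
          funext c
          show c • ((1 : A ⧸ J ^ n) ⊗ₜ[A] (1 : A')) = _
          rw [TensorProduct.smul_tmul', smul_eq_mul, mul_one])).symm
    exact Groth.Agent.LocalCrit.keepsInjective_of_flat _ _
  refine { submodule_ne_top := fun m hm htop => ?_ }
  have hJm : J ≤ m := hJ.trans (sInf_le ⟨bot_le, hm⟩)
  have h1 : (1 : A') ∈ m.map (algebraMap A A') := by
    have h2 : (1 : A') ∈ (m • ⊤ : Submodule A A') := by rw [htop]; exact Submodule.mem_top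
    rw [Ideal.smul_top_eq_map] at h2
    exact h2
  have h3 : ∀ z ∈ m.map (algebraMap A A'), ∃ a ∈ m, algebraMap A A' a - z ∈ (J ^ 1).map (algebraMap A A') := by
    intro z hz
    induction hz using Submodule.span_induction with
    | mem x hx => obtain ⟨a, ha, rfl⟩ := hx; exact ⟨a, ha, by simp⟩
    | zero => exact ⟨0, m.zero_mem, by simp⟩
    | add x y _ _ hx hy =>
      obtain ⟨a, ha, hax⟩ := hx
      obtain ⟨b, hb, hby⟩ := hy
      refine ⟨a + b, m.add_mem ha hb, ?_⟩
      rw [map_add, add_sub_add_comm]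
      exact add_mem hax hby
    | smul r x _ hx =>
      obtain ⟨a, ha, hax⟩ := hx
      obtain ⟨c, hc⟩ := h.lift 1 r
      refine ⟨c * a, m.mul_mem_left c ha, ?_⟩
      rw [smul_eq_mul, map_mul, show algebraMap A A' c * algebraMap A A' a - r * x =
        (algebraMap A A' c - r) * algebraMap A A' a + r * (algebraMap A A' a - x) by ring]
      exact add_mem (Ideal.mul_mem_right _ _ hc) (Ideal.mul_mem_left _ _ hax)
  obtain ⟨a, ha, ha1⟩ := h3 1 h1
  rw [← map_one (algebraMap A A'), ← map_sub] at ha1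
  have h4 := h.reflect 1 _ ha1
  rw [pow_one] at h4
  exact hm.ne_top ((Ideal.eq_top_iff_one m).2 (by
    have := m.sub_mem ha (hJm h4)
    rwa [sub_sub_cancel] at this))

theorem mem_of_one_tmul [Module.FaithfullyFlat A A'] {H : Type u} [AddCommGroup H] [Module A H] (W : Submodule A H)
    (x : H) (h : (1 : A') ⊗ₜ[A] x ∈ LinearMap.range (W.subtype.lTensor A')) : x ∈ W := by
  rw [← Submodule.Quotient.mk_eq_zero]
  apply Module.FaithfullyFlat.tensorProduct_mk_injective (A := A) (B := A') (H ⧸ W)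
  obtain ⟨z, hz⟩ := h
  have := congrArg (W.mkQ.lTensor A') hz
  rw [← LinearMap.comp_apply, ← LinearMap.lTensor_comp, show W.mkQ ∘ₗ W.subtype = 0 from
    LinearMap.ext fun w => (Submodule.Quotient.mk_eq_zero W).2 w.2, LinearMap.lTensor_zero, LinearMap.lTensor_tmul] at this
  rw [map_zero]
  exact this.symm

theorem smul_mem_range {H : Type u} [AddCommGroup H] [Module A H] (I : Ideal A) (N : Submodule A H) {b : A'}
    (hb : b ∈ I.map (algebraMap A A')) {v : A' ⊗[A] H} (hv : v ∈ LinearMap.range (N.subtype.lTensor A')) :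
    b • v ∈ LinearMap.range ((I • N).subtype.lTensor A') := by
  let P : Submodule A (A' ⊗[A] H) := LinearMap.range ((I • N).subtype.lTensor A')
  show b • v ∈ P
  have hP : ∀ (c : A') (w : A' ⊗[A] H), w ∈ P → c • w ∈ P := by
    rintro c _ ⟨z, rfl⟩
    refine ⟨c • z, ?_⟩
    induction z using TensorProduct.induction_on with
    | zero => simp
    | tmul x y => rw [TensorProduct.smul_tmul']; rfl
    | add x y hx hy => rw [smul_add, map_add, hx, hy, map_add, smul_add]
  obtain ⟨z, rfl⟩ := hv
  induction z using TensorProduct.induction_on with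
  | zero => simp
  | add x y hx hy => rw [map_add, smul_add]; exact add_mem hx hy
  | tmul c n =>
    rw [LinearMap.lTensor_tmul]
    induction hb using Submodule.span_induction with
    | mem x hx =>
      obtain ⟨i, hi, rfl⟩ := hx
      refine ⟨c ⊗ₜ ⟨i • (n : H), Submodule.smul_mem_smul hi n.2⟩, ?_⟩
      rw [LinearMap.lTensor_tmul, algebraMap_smul, TensorProduct.smul_tmul', TensorProduct.smul_tmul]
      rfl
    | zero => rw [zero_smul]; exact zero_mem _
    | add x y _ _ hx hy => rw [add_smul]; exact add_mem hx hy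
    | smul r x _ hx => rw [smul_eq_mul, mul_smul]; exact hP r _ hx

theorem exists_pow_smul_le {H : Type u} [AddCommGroup H] [Module A H] (hJ : J.FG) (N W : Submodule A H) (hN : N.FG)
    (h : ∀ g ∈ J, ∀ x ∈ N, ∃ b : ℕ, g ^ b • x ∈ W) : ∃ a : ℕ, J ^ a • N ≤ W := by
  have hrad : J ≤ (W.colon (N : Set H)).radical := by
    intro g hg
    classical
    obtain ⟨T, hT⟩ := hN
    choose! b hb using h g hg
    refine ⟨T.sup b, Submodule.mem_colon.2 fun x hx => ?_⟩
    have hle : N ≤ W.comap (LinearMap.lsmul A H (g ^ T.sup b)) := by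
      rw [← hT]
      refine Submodule.span_le.2 fun t ht => ?_
      show g ^ T.sup b • t ∈ W
      rw [← Nat.sub_add_cancel (Finset.le_sup (f := b) ht), pow_add, mul_smul]
      exact W.smul_mem _ (hb t (hT ▸ Submodule.subset_span ht))
    exact hle hx
  obtain ⟨a, ha⟩ := Ideal.exists_pow_le_of_le_radical_of_fg hrad hJ
  exact ⟨a, Submodule.smul_le.2 fun r hr x hx => Submodule.mem_colon.1 (ha hr) x hx⟩

/-- An endomorphism close to the identity is surjective on a small lattice. -/
theorem smul_le_map {H : Type u} [AddCommGroup H] [Module A H] (hJ : J ≤ Ideal.jacobson ⊥) (hJfg : J.FG) (f : H →ₗ[A] H)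
    (W N : Submodule A H) (hW : W.FG) (a : ℕ) (ha : J ^ a • N ≤ W)
    (hf : ∀ w ∈ W, w - f w ∈ J ^ (a + 1) • N) : J ^ a • W ≤ (J ^ a • W).map f := by
  refine Submodule.le_of_le_smul_of_le_jacobson_bot (Submodule.FG.smul (Submodule.FG.pow hJfg a) hW) hJ
    (Submodule.smul_le.2 fun r hr w hw => ?_)
  rw [show r • w = f (r • w) + r • (w - f w) by rw [map_smul, smul_sub, add_sub_cancel]]
  refine Submodule.add_mem_sup (Submodule.mem_map_of_mem (Submodule.smul_mem_smul hr hw)) ?_
  have h1 : r • (w - f w) ∈ J ^ a • (J ^ (a + 1) • N) := Submodule.smul_mem_smul hr (hf w hw)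
  refine (?_ : J ^ a • (J ^ (a + 1) • N) ≤ J • (J ^ a • W)) h1
  calc J ^ a • (J ^ (a + 1) • N) = J ^ (a + 1) • (J ^ a • N) := by
        rw [← Submodule.smul_assoc, ← Submodule.smul_assoc, smul_eq_mul, smul_eq_mul, mul_comm]
    _ ≤ J ^ (a + 1) • W := Submodule.smul_mono le_rfl ha
    _ = J • (J ^ a • W) := by rw [← Submodule.smul_assoc, smul_eq_mul, pow_succ']

end Groth.Agent.ZariskiGL
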