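import Groth.Agent.ZariskiGL.Sheaf
import Mathlib.LinearAlgebra.TensorProduct.Pi

/-!
Comparison of morphisms of coherent modules along a base change of Zariski pairs.
-/

universe u

open CategoryTheory CategoryTheory.Limits AlgebraicGeometry TopologicalSpace Opposite
open scoped TensorProduct

set_option backward.isDefEq.respectTransparency false
set_option backward.isDefEq.respectTransparency.types false
set_option linter.style.haveILetI false
set_option linter.unusedSectionVars false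
set_option maxHeartbeats 2000000

noncomputable section

namespace Groth.Agent.ZariskiGL

open Groth.Agent

variable {X X' : Scheme.{u}} (g' : X' ⟶ X)

/-- Pulling back global sections. -/
def ps (F : X.Modules) : Γ(F, ⊤) →+ Γ((Scheme.Modules.pullback g').obj F, ⊤) :=
  AddMonoidHom.mk' (fun y => QCoh.pullSec g' F (show (⊤ : X'.Opens) ≤ g' ⁻¹ᵁ ⊤ from le_rfl) y)
    fun y z => QCoh.pullSec_add g' F _ y z

/-- A function pulled back. -/
def pfn : Γ(X, ⊤) →+* Γ(X', ⊤) := (g'.appLE ⊤ ⊤ le_rfl).hom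

theorem ps_smul (F : X.Modules) (c : Γ(X, ⊤)) (y : Γ(F, ⊤)) : ps g' F (c • y) = pfn g' c • ps g' F y :=
  QCoh.pullSec_smul g' F _ c y

theorem ps_map {F G : X.Modules} (χ : F ⟶ G) (y : Γ(F, ⊤)) :
    ((Scheme.Modules.pullback g').map χ).app ⊤ (ps g' F y) = ps g' G (χ.app ⊤ y) :=
  ExistEasy.pullSec_natural g' χ _ y

theorem ps_eq_unit (F : X.Modules) (y : Γ(F, ⊤)) :
    ps g' F y = ((Scheme.Modules.pullbackPushforwardAdjunction g').unit.app F).app ⊤ y :=
  AModX.res_self (M := (Scheme.Modules.pullback g').obj F) _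

/-- Morphisms out of a pullback are determined on pulled back generators. -/
theorem pullback_hom_ext {E : X.Modules} {a : ℕ} {s : Fin a → Γ(E, ⊤)} (hs : ProjUP.GeneratedBy E s)
    {G' : X'.Modules} {φ ψ : (Scheme.Modules.pullback g').obj E ⟶ G'}
    (h : ∀ i, φ.app ⊤ (ps g' E (s i)) = ψ.app ⊤ (ps g' E (s i))) : φ = ψ := by
  refine ((Scheme.Modules.pullbackPushforwardAdjunction g').homEquiv E G').injective ?_
  refine InvX.hom_ext_of_generated hs fun i => ?_
  have key : ∀ χ : (Scheme.Modules.pullback g').obj E ⟶ G',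
      ((Scheme.Modules.pullbackPushforwardAdjunction g').homEquiv E G' χ).app ⊤ (s i) =
        χ.app ⊤ (ps g' E (s i)) := fun χ => by
    rw [ps_eq_unit, Adjunction.homEquiv_unit]
    rfl
  rw [key, key, h i]

variable {S S' : Scheme.{u}} {f : X ⟶ S} {g : S' ⟶ S} {f' : X' ⟶ S'} {g'}

theorem pfn_fn (h : IsPullback g' f' f g) (r : Γ(S, ⊤)) :
    pfn g' (fn f r) = fn f' ((g.appLE ⊤ ⊤ le_top).hom r) := by
  have : f.appTop ≫ g'.appTop = g.appTop ≫ f'.appTop := by
    rw [← Scheme.Hom.comp_appTop, ← Scheme.Hom.comp_appTop, h.w]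
  have e1 : g'.appLE ⊤ ⊤ le_rfl = g'.appTop := by rw [Scheme.Hom.appTop, Scheme.Hom.app_eq_appLE]; rfl
  have e2 : g.appLE ⊤ ⊤ le_top = g.appTop := by rw [Scheme.Hom.appTop, Scheme.Hom.app_eq_appLE]; rfl
  rw [pfn, e1, e2]
  exact congr($(this).hom r)

theorem flat_alg [IsAffine S] [IsAffine S'] [Flat g] :
    letI : Algebra Γ(S, ⊤) Γ(S', ⊤) := (g.appLE ⊤ ⊤ le_top).hom.toAlgebra
    Module.Flat Γ(S, ⊤) Γ(S', ⊤) :=
  Scheme.Hom.flat_appLE g (isAffineOpen_top S) (isAffineOpen_top S') le_top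

variable [IsAffine S] [IsAffine S'] [Flat g] [QuasiCompact f] [QuasiSeparated f] (h : IsPullback g' f' f g)

include h

theorem exists_tensor {G : X.Modules} (hG : Coh.IsQCoh G) :
    letI : Algebra Γ(S, ⊤) Γ(S', ⊤) := (g.appLE ⊤ ⊤ le_top).hom.toAlgebra
    letI := baseMod f G
    ∃ ψ : Γ(S', ⊤) ⊗[Γ(S, ⊤)] Γ(G, ⊤) →+ Γ((Scheme.Modules.pullback g').obj G, ⊤),
      (∀ c m, ψ (c ⊗ₜ m) = fn f' c • ps g' G m) ∧ Function.Bijective ψ := by
  obtain ⟨ψ, hψ, hb⟩ := GGDesc.exists_tensor_top h hG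
  exact ⟨ψ, hψ, hb⟩

theorem exists_decomp [IsLocallyNoetherian X] [X.IsQuasiAffine] {E G : X.Modules} (hE : Coh.IsCoh E)
    (hG : Coh.IsQCoh G) {a : ℕ} {s : Fin a → Γ(E, ⊤)} (hs : ProjUP.GeneratedBy E s)
    (φ' : (Scheme.Modules.pullback g').obj E ⟶ (Scheme.Modules.pullback g').obj G) :
    ∃ (k : ℕ) (b : Fin k → Γ(S', ⊤)) (χ : Fin k → (E ⟶ G)), ∀ y : Γ(E, ⊤),
      φ'.app ⊤ (ps g' E y) = ∑ m, fn f' (b m) • ps g' G ((χ m).app ⊤ y) := by
  classical
  suffices hgen : ∃ (k : ℕ) (b : Fin k → Γ(S', ⊤)) (χ : Fin k → (E ⟶ G)), ∀ i : Fin a,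
      φ'.app ⊤ (ps g' E (s i)) = ∑ m, fn f' (b m) • ps g' G ((χ m).app ⊤ (s i)) by
    obtain ⟨k, b, χ, hi⟩ := hgen
    let ρ : (Scheme.Modules.pullback g').obj E ⟶ (Scheme.Modules.pullback g').obj G :=
      ∑ m, (Scheme.Modules.pullback g').map (χ m) ≫ Formal.smulModΓ _ (fn f' (b m))
    have hρ : ∀ y, ρ.app ⊤ (ps g' E y) = ∑ m, fn f' (b m) • ps g' G ((χ m).app ⊤ y) := fun y => by
      show evalTop (ps g' E y) ρ = _
      rw [map_sum]
      refine Finset.sum_congr rfl fun m _ => ?_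
      refine (RelVA.smulModΓ_app_top _ _ _).trans ?_
      exact congrArg _ (ps_map g' (χ m) y)
    refine ⟨k, b, χ, fun y => ?_⟩
    rw [← hρ y, pullback_hom_ext g' hs (ψ := ρ) fun i => (hi i).trans (hρ (s i)).symm]
  letI : Algebra Γ(S, ⊤) Γ(S', ⊤) := (g.appLE ⊤ ⊤ le_top).hom.toAlgebra
  letI := baseMod f G
  obtain ⟨ψ, hψ, hψb⟩ := exists_tensor h hG
  obtain ⟨nb, c, hc0, hc⟩ := exists_presentation hE hs
  let L : (Fin a → Γ(G, ⊤)) →ₗ[Γ(S, ⊤)] (Fin nb → Γ(G, ⊤)) :=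
    { toFun := fun t r => ∑ i, c r i • t i
      map_add' := fun t t' => funext fun r => by
        show ∑ i, c r i • (t i + t' i) = _
        simp only [smul_add, Finset.sum_add_distrib]
        rfl
      map_smul' := fun z t => funext fun r => by
        show ∑ i, c r i • fn f z • t i = fn f z • ∑ i, c r i • t i
        rw [Finset.smul_sum]
        exact Finset.sum_congr rfl fun i _ => by rw [← mul_smul, ← mul_smul, mul_comm] }
  let pr (n : ℕ) := TensorProduct.piRight Γ(S, ⊤) Γ(S, ⊤) Γ(S', ⊤) (fun _ : Fin n => Γ(G, ⊤))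
  choose w hw using fun i => hψb.2 (φ'.app ⊤ (ps g' E (s i)))
  have hL : ∀ (x : Γ(S', ⊤) ⊗[Γ(S, ⊤)] (Fin a → Γ(G, ⊤))) (r : Fin nb),
      ψ (pr nb (L.lTensor _ x) r) = ∑ i, pfn g' (c r i) • ψ (pr a x i) := by
    intro x r
    induction x using TensorProduct.induction_on with
    | zero => simp
    | add x y hx hy => simp only [map_add, Pi.add_apply, hx, hy, smul_add, Finset.sum_add_distrib]
    | tmul d t =>
      simp only [LinearMap.lTensor_tmul, pr, TensorProduct.piRight_apply, TensorProduct.piRightHom_tmul, hψ]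
      show fn f' d • ps g' G (∑ i, c r i • t i) = _
      rw [map_sum, Finset.smul_sum]
      exact Finset.sum_congr rfl fun i _ => by rw [ps_smul, ← mul_smul, ← mul_smul, mul_comm]
  let x₀ := (pr a).symm w
  have hker : L.lTensor Γ(S', ⊤) x₀ = 0 := by
    apply (pr nb).injective
    refine funext fun r => hψb.1 ?_
    rw [hL, map_zero, Pi.zero_apply, map_zero]
    simp only [x₀, LinearEquiv.apply_symm_apply, hw]
    calc ∑ i, pfn g' (c r i) • φ'.app ⊤ (ps g' E (s i)) = φ'.app ⊤ (ps g' E (∑ i, c r i • s i)) := by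
          rw [map_sum, map_sum]
          exact Finset.sum_congr rfl fun i _ => by rw [ps_smul, Scheme.Modules.Hom.app_smul]
      _ = 0 := by rw [hc0 r, map_zero, map_zero]
  haveI := flat_alg (g := g)
  obtain ⟨z, hz⟩ := (Module.Flat.lTensor_exact Γ(S', ⊤) L.exact_subtype_ker_map x₀).1 hker
  suffices hgen : ∀ z : Γ(S', ⊤) ⊗[Γ(S, ⊤)] LinearMap.ker L, ∃ (k : ℕ) (b : Fin k → Γ(S', ⊤)) (χ : Fin k → (E ⟶ G)),
      ∀ i, ψ (pr a ((LinearMap.ker L).subtype.lTensor _ z) i) =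
        ∑ m, fn f' (b m) • ps g' G ((χ m).app ⊤ (s i)) by
    obtain ⟨k, b, χ, hk⟩ := hgen z
    refine ⟨k, b, χ, fun i => ?_⟩
    rw [← hk i, hz]
    simp only [x₀, LinearEquiv.apply_symm_apply, hw]
  intro z
  induction z using TensorProduct.induction_on with
  | zero => exact ⟨0, Fin.elim0, Fin.elim0, fun i => by simp⟩
  | tmul d t =>
    obtain ⟨χ, hχ⟩ := hc G (t : Fin a → Γ(G, ⊤)) fun r => congrFun (LinearMap.mem_ker.1 t.2) r
    refine ⟨1, fun _ => d, fun _ => χ, fun i => ?_⟩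
    simp only [LinearMap.lTensor_tmul, pr, TensorProduct.piRight_apply, TensorProduct.piRightHom_tmul, hψ,
      Fin.sum_univ_one]
    rw [hχ]
    rfl
  | add x y hx hy =>
    obtain ⟨k, b, χ, hk⟩ := hx
    obtain ⟨l, b', χ', hl⟩ := hy
    refine ⟨k + l, Fin.append b b', Fin.append χ χ', fun i => ?_⟩
    simp only [map_add, Pi.add_apply, hk, hl, Fin.sum_univ_add, Fin.append_left, Fin.append_right]

end Groth.Agent.ZariskiGL
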