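import Groth.Agent.ZariskiGL.BC

/-!
Coherent modules isomorphic after a base change of Zariski pairs are isomorphic.
-/

universe u

open CategoryTheory CategoryTheory.Limits AlgebraicGeometry TopologicalSpace Opposite
open scoped TensorProduct

set_option backward.isDefEq.respectTransparency false
set_option backward.isDefEq.respectTransparency.types false
set_option linter.style.haveILetI false
set_option linter.unusedSectionVars false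
set_option maxHeartbeats 2000000

noncomputable section

namespace Groth.Agent.ZariskiGL

open Groth.Agent

variable {X X' S S' : Scheme.{u}} {f : X ⟶ S} {g : S' ⟶ S} {f' : X' ⟶ S'} {g' : X' ⟶ X}
  [IsAffine S] [IsAffine S'] [Flat g] [QuasiCompact f] [QuasiSeparated f] (h : IsPullback g' f' f g)

include h

theorem isIso_comp_of_approx [IsLocallyNoetherian X] [X.IsQuasiAffine] [QuasiSeparatedSpace X] {E G : X.Modules}
    (hE : Coh.IsCoh E) (J : Ideal Γ(S, ⊤))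
    (hff : letI : Algebra Γ(S, ⊤) Γ(S', ⊤) := (g.appLE ⊤ ⊤ le_top).hom.toAlgebra;
      Module.FaithfullyFlat Γ(S, ⊤) Γ(S', ⊤))
    (hJ : J ≤ Ideal.jacobson ⊥) (hJfg : J.FG)
    (φ' : (Scheme.Modules.pullback g').obj E ⟶ (Scheme.Modules.pullback g').obj G)
    (θ' : (Scheme.Modules.pullback g').obj G ⟶ (Scheme.Modules.pullback g').obj E) (hφθ : φ' ≫ θ' = 𝟙 _)
    {k l : ℕ} (b : Fin k → Γ(S', ⊤)) (χ : Fin k → (E ⟶ G)) (d : Fin l → Γ(S', ⊤)) (ω : Fin l → (G ⟶ E))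
    (hb : ∀ y, φ'.app ⊤ (ps g' E y) = ∑ m, fn f' (b m) • ps g' G ((χ m).app ⊤ y))
    (hd : ∀ y, θ'.app ⊤ (ps g' G y) = ∑ n, fn f' (d n) • ps g' E ((ω n).app ⊤ y))
    {a : ℕ} {s : Fin a → Γ(E, ⊤)} (hs : ProjUP.GeneratedBy E s)
    (hloc : letI := baseMod f E; ∀ r ∈ J, ∀ y : Γ(E, ⊤), ∃ e : ℕ, r ^ e • y ∈ Submodule.span Γ(S, ⊤) (Set.range s)) :
    ∃ M₀ : ℕ, ∀ (M : ℕ), M₀ ≤ M → ∀ (α : Fin k → Γ(S, ⊤)) (δ : Fin l → Γ(S, ⊤)),
      (∀ m, (g.appLE ⊤ ⊤ le_top).hom (α m) - b m ∈ (J ^ M).map (g.appLE ⊤ ⊤ le_top).hom) →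
      (∀ n, (g.appLE ⊤ ⊤ le_top).hom (δ n) - d n ∈ (J ^ M).map (g.appLE ⊤ ⊤ le_top).hom) →
      IsIso ((∑ m, χ m ≫ Formal.smulModΓ G (fn f (α m))) ≫ ∑ n, ω n ≫ Formal.smulModΓ E (fn f (δ n))) := by
  classical
  letI : Algebra Γ(S, ⊤) Γ(S', ⊤) := (g.appLE ⊤ ⊤ le_top).hom.toAlgebra
  letI := baseMod f E
  haveI : Module.FaithfullyFlat Γ(S, ⊤) Γ(S', ⊤) := hff
  let yy : Fin a → Fin k → Fin l → Γ(E, ⊤) := fun i m n => (ω n).app ⊤ ((χ m).app ⊤ (s i))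
  let N : Submodule Γ(S, ⊤) Γ(E, ⊤) :=
    Submodule.span Γ(S, ⊤) (Set.range fun p : Fin a × Fin k × Fin l => yy p.1 p.2.1 p.2.2)
  obtain ⟨a₁, ha₁⟩ := exists_pow_smul_le hJfg N (Submodule.span Γ(S, ⊤) (Set.range s))
    (Submodule.fg_span (Set.finite_range _)) fun r hr y _ => hloc r hr y
  refine ⟨a₁ + 1, fun M hM α δ hα hδ => isIso_of_congr f hE J hJ hJfg hs _ N a₁ ha₁ fun i => ?_⟩
  let φ : E ⟶ G := ∑ m, χ m ≫ Formal.smulModΓ G (fn f (α m))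
  let θ : G ⟶ E := ∑ n, ω n ≫ Formal.smulModΓ E (fn f (δ n))
  refine Submodule.smul_mono_left (Ideal.pow_le_pow_right hM) ?_
  show s i - (φ ≫ θ).app ⊤ (s i) ∈ J ^ M • N
  obtain ⟨ψ, hψ, hψb⟩ := exists_tensor h hE.1
  have hφ : φ.app ⊤ (s i) = ∑ m, fn f (α m) • (χ m).app ⊤ (s i) := by
    show evalTop (s i) φ = _
    rw [map_sum]
    exact Finset.sum_congr rfl fun m _ => RelVA.smulModΓ_app_top _ _ _
  have hθ : ∀ y, θ.app ⊤ y = ∑ n, fn f (δ n) • (ω n).app ⊤ y := fun y => by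
    show evalTop y θ = _
    rw [map_sum]
    exact Finset.sum_congr rfl fun n _ => RelVA.smulModΓ_app_top _ _ _
  have hφθi : (φ ≫ θ).app ⊤ (s i) = ∑ m, ∑ n, (α m * δ n) • yy i m n := by
    show θ.app ⊤ (φ.app ⊤ (s i)) = _
    rw [hφ, map_sum]
    refine Finset.sum_congr rfl fun m _ => ?_
    rw [Scheme.Modules.Hom.app_smul, hθ, Finset.smul_sum]
    refine Finset.sum_congr rfl fun n _ => ?_
    show _ = fn f (α m * δ n) • yy i m n
    rw [map_mul, mul_smul]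
  have hps : ps g' E (s i) = ∑ m, ∑ n, fn f' (b m * d n) • ps g' E (yy i m n) := by
    calc ps g' E (s i) = θ'.app ⊤ (φ'.app ⊤ (ps g' E (s i))) :=
          (congrArg (fun χ : (Scheme.Modules.pullback g').obj E ⟶ _ => χ.app ⊤ (ps g' E (s i))) hφθ).symm
      _ = _ := by
        rw [hb, map_sum]
        refine Finset.sum_congr rfl fun m _ => ?_
        rw [Scheme.Modules.Hom.app_smul, hd, Finset.smul_sum]
        exact Finset.sum_congr rfl fun n _ => by rw [map_mul, mul_smul]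
  let z : Γ(S', ⊤) ⊗[Γ(S, ⊤)] Γ(E, ⊤) :=
    ∑ m, ∑ n, (b m * d n - algebraMap Γ(S, ⊤) Γ(S', ⊤) (α m * δ n)) • ((1 : Γ(S', ⊤)) ⊗ₜ[Γ(S, ⊤)] yy i m n)
  have hz : (1 : Γ(S', ⊤)) ⊗ₜ[Γ(S, ⊤)] (s i - (φ ≫ θ).app ⊤ (s i)) = z := by
    apply hψb.1
    rw [hψ, map_sub (ps g' E), map_one, one_smul, hφθi, hps, map_sum, ← Finset.sum_sub_distrib]
    simp only [z, map_sum]
    refine Finset.sum_congr rfl fun m _ => ?_
    rw [← Finset.sum_sub_distrib]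
    refine Finset.sum_congr rfl fun n _ => ?_
    rw [TensorProduct.smul_tmul', smul_eq_mul, mul_one, hψ, map_sub, sub_smul]
    congr 1
    show ps g' E (fn f (α m * δ n) • yy i m n) = _
    rw [ps_smul, pfn_fn h]
    rfl
  refine mem_of_one_tmul (A' := Γ(S', ⊤)) _ _ ?_
  rw [hz]
  refine Submodule.sum_mem _ fun m _ => Submodule.sum_mem _ fun n _ => ?_
  refine smul_mem_range (J ^ M) N ?_ ⟨1 ⊗ₜ ⟨yy i m n, Submodule.subset_span ⟨(i, m, n), rfl⟩⟩, rfl⟩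
  rw [map_mul, show b m * d n - algebraMap Γ(S, ⊤) Γ(S', ⊤) (α m) * algebraMap Γ(S, ⊤) Γ(S', ⊤) (δ n) =
    -((algebraMap Γ(S, ⊤) Γ(S', ⊤) (α m) - b m) * d n) -
      algebraMap Γ(S, ⊤) Γ(S', ⊤) (α m) * (algebraMap Γ(S, ⊤) Γ(S', ⊤) (δ n) - d n) by ring]
  exact sub_mem (neg_mem (Ideal.mul_mem_right _ _ (hα m))) (Ideal.mul_mem_left _ _ (hδ n))

/-- Coherent modules with isomorphic pullbacks are isomorphic. -/
theorem nonempty_iso [IsLocallyNoetherian X] [X.IsQuasiAffine] [QuasiSeparatedSpace X] {E G : X.Modules}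
    (hE : Coh.IsCoh E) (hG : Coh.IsCoh G) (J : Ideal Γ(S, ⊤))
    [IsNoetherianRing Γ(S, ⊤)] [IsNoetherianRing Γ(S', ⊤)]
    (hJ : J ≤ Ideal.jacobson ⊥) (hJ' : J.map (g.appLE ⊤ ⊤ le_top).hom ≤ Ideal.jacobson ⊥)
    (hq : letI : Algebra Γ(S, ⊤) Γ(S', ⊤) := (g.appLE ⊤ ⊤ le_top).hom.toAlgebra; SameQuot (A' := Γ(S', ⊤)) J)
    (haff : ∀ r ∈ J, IsAffineOpen (X.basicOpen (fn f r)))
    (hfun : ∀ r ∈ J, ∀ z : Γ(X, ⊤), ∃ (n : ℕ) (a : Γ(S, ⊤)), fn f r ^ n * z = fn f a)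
    (e : (Scheme.Modules.pullback g').obj E ≅ (Scheme.Modules.pullback g').obj G) : Nonempty (E ≅ G) := by
  classical
  letI : Algebra Γ(S, ⊤) Γ(S', ⊤) := (g.appLE ⊤ ⊤ le_top).hom.toAlgebra
  have hff : Module.FaithfullyFlat Γ(S, ⊤) Γ(S', ⊤) := hq.faithfullyFlat hJ hJ'
  have hJfg : J.FG := IsNoetherian.noetherian J
  obtain ⟨a, s, hs⟩ := RegPow.exists_fin_generatedBy_of_gg hE (AmpleX.isGloballyGenerated_of_isQuasiAffine hE.1)
  obtain ⟨c, t, ht⟩ := RegPow.exists_fin_generatedBy_of_gg hG (AmpleX.isGloballyGenerated_of_isQuasiAffine hG.1)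
  obtain ⟨k, b, χ, hb⟩ := exists_decomp h hE hG.1 hs e.hom
  obtain ⟨l, d, ω, hd⟩ := exists_decomp h hG hE.1 ht e.inv
  obtain ⟨M₁, hM₁⟩ := isIso_comp_of_approx h hE J hff hJ hJfg e.hom e.inv e.hom_inv_id b χ d ω hb hd hs
    fun r hr y => exists_pow_smul_mem f hE hs r (haff r hr) (hfun r hr) y
  obtain ⟨M₂, hM₂⟩ := isIso_comp_of_approx h hG J hff hJ hJfg e.inv e.hom e.inv_hom_id d ω b χ hd hb ht
    fun r hr y => exists_pow_smul_mem f hG ht r (haff r hr) (hfun r hr) y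
  choose α hα using fun m => hq.lift (max M₁ M₂) (b m)
  choose δ hδ using fun n => hq.lift (max M₁ M₂) (d n)
  let φ : E ⟶ G := ∑ m, χ m ≫ Formal.smulModΓ G (fn f (α m))
  let θ : G ⟶ E := ∑ n, ω n ≫ Formal.smulModΓ E (fn f (δ n))
  haveI : IsIso (φ ≫ θ) := hM₁ _ (le_max_left _ _) α δ hα hδ
  haveI : IsIso (θ ≫ φ) := hM₂ _ (le_max_right _ _) δ α hδ hα
  haveI : Mono φ := mono_of_mono φ θ
  haveI : Epi φ := epi_of_epi θ φ
  haveI : IsIso φ := isIso_of_mono_of_epi φ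
  exact ⟨asIso φ⟩

end Groth.Agent.ZariskiGL
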