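import Groth.Agent.ZariskiGL.Alg
import Groth.Agent.GGDesc.Semilocal
import Groth.Agent.AmpleX.QAGenerated
import Groth.Agent.RegPow.GG
import Groth.Agent.QCoh.Support
import Groth.Agent.FDescent.StalkFinite
import Groth.Agent.RelVA.Main
import Groth.Agent.KFlatLib.Scheme.Exact
import Groth.Agent.VBPnX.FinGen
import Groth.Prelude.Def_RefHull

/-!
Morphisms of coherent modules on a quasi-affine scheme under a flat base change with the same quotients.
-/

universe u

open CategoryTheory CategoryTheory.Limits AlgebraicGeometry TopologicalSpace Opposite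
open scoped TensorProduct

set_option backward.isDefEq.respectTransparency false
set_option backward.isDefEq.respectTransparency.types false
set_option linter.style.haveILetI false
set_option maxHeartbeats 1000000

noncomputable section

namespace Groth.Agent.ZariskiGL

open Groth.Agent

variable {X : Scheme.{u}}

/-- Applying a morphism on global sections, additively in the morphism. -/
def evalTop {F G : X.Modules} (s : Γ(F, ⊤)) : (F ⟶ G) →+ Γ(G, ⊤) :=
  AddMonoidHom.mk' (fun φ => φ.app ⊤ s) fun _ _ => rfl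

/-- A map out of a free module on global sections. -/
theorem free_app (a : ℕ) : ∃ π : Fin a → (FlatMod.freeMod X a ⟶ Coh.structureModule X),
    ∀ (G : X.Modules) (t : Fin a → Γ(G, ⊤)) (z : Γ(FlatMod.freeMod X a, ⊤)),
      (Sigma.desc fun i => InvX.ofSect (t i) : FlatMod.freeMod X a ⟶ G).app ⊤ z =
        ∑ i, (show Γ(X, ⊤) from (π i).app ⊤ z) • t i := by
  classical
  let P := FlatMod.freeMod X a
  let ι (i : Fin a) : Coh.structureModule X ⟶ P := Sigma.ι (fun _ : Fin a => Coh.structureModule X) i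
  let π (i : Fin a) : P ⟶ Coh.structureModule X :=
    Sigma.desc fun j => if j = i then 𝟙 (Coh.structureModule X) else 0
  refine ⟨π, ?_⟩
  have hid : 𝟙 P = ∑ i, π i ≫ ι i := by
    refine Sigma.hom_ext _ _ fun j => ?_
    rw [Category.comp_id, Preadditive.comp_sum, Finset.sum_eq_single j]
    · show _ = ι j ≫ π j ≫ ι j
      rw [← Category.assoc, show ι j ≫ π j = _ from Sigma.ι_desc _ _, if_pos rfl, Category.id_comp]
    · intro i _ hij
      show ι j ≫ π i ≫ ι i = 0
      rw [← Category.assoc, show ι j ≫ π i = _ from Sigma.ι_desc _ _, if_neg (Ne.symm hij), zero_comp]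
    · intro h
      exact absurd (Finset.mem_univ j) h
  intro G t z
  let τ : P ⟶ G := Sigma.desc fun i => InvX.ofSect (t i)
  have h1 : τ = ∑ i, π i ≫ InvX.ofSect (t i) := by
    conv_lhs => rw [← Category.id_comp τ, hid, Preadditive.sum_comp]
    refine Finset.sum_congr rfl fun i _ => ?_
    rw [Category.assoc, show ι i ≫ τ = InvX.ofSect (t i) from Sigma.ι_desc _ _]
  show evalTop z τ = _
  rw [h1, map_sum]
  refine Finset.sum_congr rfl fun i _ => ?_
  refine (InvX.app_eq_smul (InvX.ofSect (t i)) (W := ⊤) (show Γ(X, ⊤) from (π i).app ⊤ z)).trans ?_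
  rw [InvX.one_ofSect]
  exact congrArg _ (AModX.res_self _)

/-- Generators with enough relations. -/
theorem exists_presentation [IsLocallyNoetherian X] [X.IsQuasiAffine] {E : X.Modules}
    (hE : Coh.IsCoh E) {a : ℕ} {s : Fin a → Γ(E, ⊤)} (hs : ProjUP.GeneratedBy E s) :
    ∃ (b : ℕ) (c : Fin b → Fin a → Γ(X, ⊤)), (∀ r, ∑ i, c r i • s i = 0) ∧
      ∀ (G : X.Modules) (t : Fin a → Γ(G, ⊤)), (∀ r, ∑ i, c r i • t i = 0) →
        ∃ χ : E ⟶ G, ∀ i, χ.app ⊤ (s i) = t i := by
  classical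
  let P := FlatMod.freeMod X a
  let ι (i : Fin a) : Coh.structureModule X ⟶ P := Sigma.ι (fun _ : Fin a => Coh.structureModule X) i
  obtain ⟨π, hτ⟩ := free_app (X := X) a
  let p : P ⟶ E := Sigma.desc fun i => InvX.ofSect (s i)
  haveI : Epi p := InvX.epi_of_generated hs p ι
    fun i => (congrArg InvX.one (Sigma.ι_desc _ _)).trans (InvX.one_ofSect _)
  have hP : Coh.IsCoh P := VBPnX.FinGen.isCoh_freeMod a
  have hK : Coh.IsCoh (kernel p) := QCoh.isCoh_kernel hP hE p
  obtain ⟨b, k, hk⟩ := RegPow.exists_fin_generatedBy_of_gg hK (AmpleX.isGloballyGenerated_of_isQuasiAffine hK.1)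
  refine ⟨b, fun r i => (π i).app ⊤ ((kernel.ι p).app ⊤ (k r)), fun r => ?_, fun G t ht => ?_⟩
  · refine (hτ E s ((kernel.ι p).app ⊤ (k r))).symm.trans ?_
    show evalTop (k r) (kernel.ι p ≫ p) = 0
    rw [kernel.condition, map_zero]
  · let τ : P ⟶ G := Sigma.desc fun i => InvX.ofSect (t i)
    have h0 : kernel.ι p ≫ τ = 0 := InvX.hom_ext_of_generated hk fun r =>
      (hτ G t ((kernel.ι p).app ⊤ (k r))).trans (ht r)
    refine ⟨Abelian.epiDesc p τ h0, fun i => ?_⟩
    have h1 : ι i ≫ p = InvX.ofSect (s i) := Sigma.ι_desc _ _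
    have h2 : InvX.ofSect (s i) ≫ Abelian.epiDesc p τ h0 = InvX.ofSect (t i) := by
      rw [← h1, Category.assoc, Abelian.comp_epiDesc]
      exact Sigma.ι_desc _ _
    rw [← InvX.one_ofSect (s i), ← InvX.one_ofSect (t i)]
    exact congrArg InvX.one h2

/-- An endomorphism of a coherent module congruent to the identity is an isomorphism. -/
theorem isIso_of_epiStalk {E : X.Modules} (hE : Coh.IsCoh E) (e : E ⟶ E)
    (h : ∀ x, Function.Surjective (RefHull.stalkMapₗ e x)) : IsIso e := by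
  refine KFlatLib.isIso_of_stalk e fun x => ?_
  haveI := hE.2
  haveI := FDescent.finite_stalk E x
  haveI : Module.Finite (X.presheaf.stalk x) ((DerSch.stalkFunctor X x).obj E) :=
    inferInstanceAs (Module.Finite (X.presheaf.stalk x) (E.presheaf.stalk x))
  have hs : Function.Surjective ((DerSch.stalkFunctor X x).map e).hom := fun y => h x y
  rw [ConcreteCategory.isIso_iff_bijective]
  exact ⟨OrzechProperty.injective_of_surjective_endomorphism _ hs, hs⟩

section BaseChange

variable {S S' X' : Scheme.{u}} (f : X ⟶ S) {g : S' ⟶ S} {f' : X' ⟶ S'} {g' : X' ⟶ X}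

/-- A function of the base on the total space. -/
def fn : Γ(S, ⊤) →+* Γ(X, ⊤) := (f.app ⊤).hom

/-- Multiples of global sections by functions of the base. -/
abbrev baseMod (F : X.Modules) : Module Γ(S, ⊤) Γ(F, ⊤) :=
  inferInstanceAs (Module Γ(S, ⊤) Γ((Scheme.Modules.pushforward f).obj F, ⊤))

theorem isIso_of_congr [IsLocallyNoetherian X] [CompactSpace X] [QuasiSeparatedSpace X] {E : X.Modules}
    (hE : Coh.IsCoh E) (J : Ideal Γ(S, ⊤)) (hJ : J ≤ Ideal.jacobson ⊥) (hJfg : J.FG) {k : ℕ}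
    {s : Fin k → Γ(E, ⊤)} (hs : ProjUP.GeneratedBy E s) (e : E ⟶ E)
    (N : letI := baseMod f E; Submodule Γ(S, ⊤) Γ(E, ⊤)) (a : ℕ)
    (ha : letI := baseMod f E; J ^ a • N ≤ Submodule.span Γ(S, ⊤) (Set.range s))
    (he : letI := baseMod f E; ∀ i, s i - e.app ⊤ (s i) ∈ J ^ (a + 1) • N) : IsIso e := by
  letI := baseMod f E
  let eL : Γ(E, ⊤) →ₗ[Γ(S, ⊤)] Γ(E, ⊤) :=
    { toFun := fun y => e.app ⊤ y
      map_add' := fun y z => map_add (e.app ⊤).hom y z
      map_smul' := fun r y => Scheme.Modules.Hom.app_smul e (fn f r) y }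
  let W : Submodule Γ(S, ⊤) Γ(E, ⊤) := Submodule.span _ (Set.range s)
  have hW : W.FG := Submodule.fg_span (Set.finite_range s)
  have heW : ∀ w ∈ W, w - eL w ∈ J ^ (a + 1) • N := by
    intro w hw
    have : W ≤ (J ^ (a + 1) • N).comap (LinearMap.id - eL) := Submodule.span_le.2 (by
      rintro _ ⟨i, rfl⟩
      exact he i)
    exact this hw
  have hlat := smul_le_map hJ hJfg eL W N hW a ha heW
  refine isIso_of_epiStalk hE e fun x => ?_
  let R := X.presheaf.stalk x
  let γ : Γ(S, ⊤) →+* R := (X.presheaf.germ ⊤ x trivial).hom.comp (fn f)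
  let gm : Γ(E, ⊤) →+ E.presheaf.stalk x := (E.presheaf.germ ⊤ x trivial).hom
  have hgm : ∀ r y, gm (r • y) = γ r • gm y := fun r y => QCoh.germ_smul' E (Opens.mem_top x) (fn f r) y
  let T : Submodule R (E.presheaf.stalk x) := LinearMap.range (RefHull.stalkMapₗ e x)
  have hT : ∀ y, gm (eL y) ∈ T := fun y => ⟨gm y, RefHull.stalkMapₗ_germ e x (Opens.mem_top x) y⟩
  rw [← LinearMap.range_eq_top]
  change T = ⊤
  by_cases hc : ∃ r ∈ J, IsUnit (γ r)
  · obtain ⟨r, hr, hu⟩ := hc
    rw [eq_top_iff, ← hs x, Submodule.span_le]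
    rintro _ ⟨i, rfl⟩
    obtain ⟨w, -, hw⟩ := hlat (Submodule.smul_mem_smul (Ideal.pow_mem_pow hr a) (Submodule.subset_span ⟨i, rfl⟩))
    show gm (s i) ∈ T
    rw [← Submodule.smul_mem_iff_of_isUnit T (hu.pow a), ← map_pow, ← hgm, ← hw]
    exact hT w
  · push Not at hc
    haveI := hE.2
    haveI := FDescent.finite_stalk E x
    let M : Submodule R (E.presheaf.stalk x) := IsLocalRing.maximalIdeal R • ⊤
    have hM : ∀ z ∈ J ^ (a + 1) • N, gm z ∈ M := by
      intro z hz
      refine Submodule.smul_induction_on (p := fun z => gm z ∈ M) hz (fun r hr n _ => ?_) fun y z hy hz => ?_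
      · rw [hgm]
        exact Submodule.smul_mem_smul ((IsLocalRing.mem_maximalIdeal _).2 (hc r
          (Ideal.pow_le_self (Nat.succ_ne_zero a) hr))) Submodule.mem_top
      · rw [map_add]; exact add_mem hy hz
    refine top_le_iff.1 (Submodule.le_of_le_smul_of_le_jacobson_bot (I := IsLocalRing.maximalIdeal R)
      Module.Finite.fg_top (IsLocalRing.maximalIdeal_le_jacobson _) ?_)
    rw [← hs x, Submodule.span_le]
    rintro _ ⟨i, rfl⟩
    show gm (s i) ∈ _
    rw [← sub_add_cancel (s i) (eL (s i)), map_add, hs x, add_comm]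
    exact Submodule.add_mem_sup (hT _) (hM _ (heW _ (Submodule.subset_span ⟨i, rfl⟩)))

theorem exists_pow_smul_mem [IsLocallyNoetherian X] [CompactSpace X] [QuasiSeparatedSpace X] {E : X.Modules}
    (hE : Coh.IsCoh E) {k : ℕ} {s : Fin k → Γ(E, ⊤)} (hs : ProjUP.GeneratedBy E s) (r : Γ(S, ⊤))
    (hr : IsAffineOpen (X.basicOpen (fn f r)))
    (hz : ∀ z : Γ(X, ⊤), ∃ (n : ℕ) (a : Γ(S, ⊤)), fn f r ^ n * z = fn f a) (y : Γ(E, ⊤)) :
    letI := baseMod f E
    ∃ b : ℕ, r ^ b • y ∈ Submodule.span Γ(S, ⊤) (Set.range s) := by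
  letI := baseMod f E
  let P := FlatMod.freeMod X k
  let p : P ⟶ E := Sigma.desc fun i => InvX.ofSect (s i)
  haveI : Epi p := InvX.epi_of_generated hs p (fun i => Sigma.ι (fun _ : Fin k => Coh.structureModule X) i)
    fun i => (congrArg InvX.one (Sigma.ι_desc _ _)).trans (InvX.one_ofSect _)
  have hP : Coh.IsCoh P := VBPnX.FinGen.isCoh_freeMod k
  obtain ⟨π, hπ⟩ := free_app (X := X) k
  let D := X.basicOpen (fn f r)
  obtain ⟨z, hz'⟩ := QCoh.app_surjective_of_epi hP.1 hE.1 p hr (AModX.res E (le_top : D ≤ ⊤) y)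
  obtain ⟨n, T, hT⟩ := QCoh.exists_pow_smul_eq_map_of_isQuasiSeparated hP.1 isCompact_univ isQuasiSeparated_univ
    (fn f r) z
  have h0 : E.presheaf.map (homOfLE (X.basicOpen_le (fn f r))).op (p.app ⊤ T - fn f r ^ n • y) = 0 := by
    rw [map_sub, ← QCoh.map_app_comm p (homOfLE (X.basicOpen_le (fn f r))) T, hT, Scheme.Modules.Hom.app_smul,
      QCoh.map_smul' (M := E) (homOfLE (X.basicOpen_le (fn f r))), map_pow]
    rw [show p.app D z = _ from hz', sub_eq_zero]
    rfl
  obtain ⟨m, hm⟩ := QCoh.exists_pow_smul_eq_zero_of_isCompact hE.1 isCompact_univ (fn f r) _ h0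
  choose N α hα using fun i => hz (show Γ(X, ⊤) from (π i).app ⊤ T)
  refine ⟨Finset.univ.sup N + (m + n), ?_⟩
  have h1 : fn f r ^ (m + n) • y = fn f r ^ m • p.app ⊤ T := by
    rw [smul_sub, sub_eq_zero] at hm
    rw [hm, ← mul_smul, ← pow_add]
  have h2 : r ^ (Finset.univ.sup N + (m + n)) • y =
      ∑ i, (r ^ (Finset.univ.sup N - N i + m) * α i) • s i := by
    show fn f (r ^ (Finset.univ.sup N + (m + n))) • y = _
    rw [map_pow, pow_add, mul_smul, h1, hπ, Finset.smul_sum, Finset.smul_sum]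
    refine Finset.sum_congr rfl fun i _ => ?_
    show _ = fn f (r ^ (Finset.univ.sup N - N i + m) * α i) • s i
    rw [← mul_smul, ← mul_smul, map_mul, map_pow]
    congr 1
    conv_lhs => rw [← Nat.sub_add_cancel (Finset.le_sup (f := N) (Finset.mem_univ i))]
    rw [pow_add, pow_add, ← hα i]
    ring
  rw [h2]
  exact Submodule.sum_mem _ fun i _ => Submodule.smul_mem _ _ (Submodule.subset_span ⟨i, rfl⟩)

end BaseChange

end Groth.Agent.ZariskiGL
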